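import Cfsg.Agent.Helper7.J3Mult.Glue
import Cfsg.Agent.Helper98.J3Gen

/-!
# Elements of the matrix model of `3·J₃` with given codes

Every generator of the definition, and hence every entry of a straight line program on their codes,
is the code of an element of a group `K` generated by elements with the codes `aCode`, `bCode`.
-/

set_option autoImplicit false

namespace Cfsg.Agent.Helper7.J3Mult

open Cfsg.Agent.Helper27 Cfsg.Agent.Helper98.J3 Cfsg.Agent.Helper7.ModTC

universe u

variable {K : Type u} [Group K] {φ : K →* Matrix (Fin 9) (Fin 9) GF4}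
  {a b : K} (ha : φ a = toMat aCode) (hb : φ b = toMat bCode)

include ha hb

theorem gen_rep : ∀ k < 43, Rep φ (⊤ : Subgroup K) (genCodes.getD k 0) := by
  obtain ⟨fB1, fB2, fB3⟩ := slpB_facts
  have hB := rep_of_slp (φ := φ) (S := ⊤) slpB_ok (by
    intro k hk
    interval_cases k
    · rw [fB1]; exact ⟨a, Subgroup.mem_top _, ha⟩
    · rw [fB2]; exact ⟨b, Subgroup.mem_top _, hb⟩)
  intro k hk
  have := hB (ixB.getD k 0) (fB3 k hk).1
  rwa [(fB3 k hk).2] at this

/-- elements whose codes are the letters `li`, obtained by a straight line program from the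
generators of the definition -/
theorem exists_letters {tab : List ℕ} {prog : List (ℕ × ℕ)} {ix li : List ℕ}
    (hslp : slpOK tab prog 43 = true) (h0 : ∀ k < 43, tab.getD k 0 = genCodes.getD k 0)
    (k : ℕ) (hk : li.length = 2 * k)
    (hix : ∀ l < 2 * k, ix.getD l 0 < tab.length ∧ tab.getD (ix.getD l 0) 0 = li.getD l 0) :
    ∃ gK : ℕ → K, (∀ i < k, φ (gK i) = toMat (li.getD (2 * i) 0)) ∧ ∀ i, k ≤ i → gK i = 1 := by
  classical
  have hrep := rep_of_slp (φ := φ) (S := ⊤) hslp (by
    intro j hj
    rw [h0 j hj]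
    exact gen_rep ha hb j hj)
  have hex : ∀ i, ∃ g : K, i < k → φ g = toMat (li.getD (2 * i) 0) := by
    intro i
    by_cases hi : i < k
    · obtain ⟨h1, h2⟩ := hix (2 * i) (by omega)
      obtain ⟨g, -, hg⟩ := hrep _ h1
      exact ⟨g, fun _ => by rw [hg, h2]⟩
    · exact ⟨1, fun h => absurd h hi⟩
  choose g hg using hex
  refine ⟨fun i => if i < k then g i else 1, fun i hi => ?_, fun i hi => ?_⟩
  · show φ (if i < k then g i else 1) = _
    rw [if_pos hi]
    exact hg i hi
  · show (if i < k then g i else 1) = 1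
    rw [if_neg (by omega)]

end Cfsg.Agent.Helper7.J3Mult
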