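import Cfsg.Agent.Helper7.J3Mult.Rows
import Cfsg.Agent.Helper7.ModTC.StemGen

/-!
# Labelled coset tables over the matrix model of `J₃`

`K` is a group with an injective homomorphism `φ` to `9 × 9` matrices over `GF4` as in helper98's
`J3Main`; the hypotheses of `ModTC.stem_gen` for subgroups of `K ⧸ Z(K)` generated by elements with
given packed codes are decided by multiplying codes: a word is trivial iff its code is scalar, and
the elements of the nodes are pairwise distinct because the images of a fixed row vector under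
them have pairwise distinct keys.
-/

set_option autoImplicit false

namespace Cfsg.Agent.Helper7.J3Mult

open Cfsg.Agent.Helper27 Cfsg.Agent.Helper98.J3 Cfsg.Agent.Helper7.ModTC

universe u

/-- the code of a word in the letters `li` -/
def wordCode (li : List ℕ) : List ℕ → ℕ
  | [] => idCode
  | l :: w => prodCode (li.getD l 0) (wordCode li w)

/-- the image of a packed row under a word -/
def rowW (li : List ℕ) : ℕ → List ℕ → ℕ
  | r, [] => r
  | r, l :: w => rowW li (rowMulW r (li.getD l 0)) w

/-- all letters are below `n` -/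
def lettersOK (n : ℕ) (w : List ℕ) : Bool := w.all fun l => decide (l < n)

/-- the odd entries are the inverses of the even ones -/
def invChk (li : List ℕ) (k : ℕ) : Bool :=
  (List.range k).all fun i => eqMul (li.getD (2 * i) 0) (li.getD (2 * i + 1) 0) idCode

/-- the relators are scalar, and the words `zws i` give the generators -/
def relChk (li : List ℕ) (a k m : ℕ) (relsL zwsL : List (List ℕ)) : Bool :=
  ((List.range m).all fun b => lettersOK (2 * k) (relsL.getD b []) &&
    isScal (wordCode li (relsL.getD b []))) &&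
  ((List.range k).all fun i => lettersOK (2 * k) (zwsL.getD i []) &&
    isScal (wordCode li ((2 * i + 1) :: zwsL.getD i [])) &&
    (if i < a then zwsL.getD i [] == [2 * i] else Cert.isZero (esum (zwsL.getD i []))))

/-- the key of the image of the row `v` under the element of a node -/
def nodeChk (li : List ℕ) (k v : ℕ) (C : Cert) (keyT : ℕ) (c : ℕ) : Bool :=
  lettersOK (2 * k) (C.tw c) && (fld keyT 18 c == key (rowW li v (C.tw c)))

def nodeRange (li : List ℕ) (k v : ℕ) (C : Cert) (keyT lo len : ℕ) : Bool :=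
  (List.range len).all fun i => nodeChk li k v C keyT (lo + i)

theorem nodeRange_spec {li : List ℕ} {k v : ℕ} {C : Cert} {keyT lo len : ℕ}
    (h : nodeRange li k v C keyT lo len = true) {c : ℕ} (h1 : lo ≤ c) (h2 : c < lo + len) :
    nodeChk li k v C keyT c = true := by
  simp only [nodeRange, List.all_eq_true, List.mem_range] at h
  have := h (c - lo) (by omega)
  rwa [show lo + (c - lo) = c by omega] at this

/-- the keys are strictly increasing along the sorting table -/
def sortChk (keyT sigT ws n : ℕ) : Bool :=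
  (List.range (n - 1)).all fun j =>
    decide (fld sigT ws j < n) && decide (fld sigT ws (j + 1) < n) &&
      decide (fld keyT 18 (fld sigT ws j) < fld keyT 18 (fld sigT ws (j + 1)))

section

variable {K : Type u} [Group K] {φ : K →* Matrix (Fin 9) (Fin 9) GF4}

theorem lettersOK_spec {n : ℕ} {w : List ℕ} (h : lettersOK n w = true) : ∀ l ∈ w, l < n := by
  simpa [lettersOK] using h

/-- the code of a letter -/
theorem evL_code {li : List ℕ} {k : ℕ} (gK : ℕ → K)
    (hgK : ∀ i < k, φ (gK i) = toMat (li.getD (2 * i) 0)) (hinv : invChk li k = true)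
    {l : ℕ} (hl : l < 2 * k) : φ (evL gK l) = toMat (li.getD l 0) := by
  unfold evL
  rcases Nat.mod_two_eq_zero_or_one l with h | h
  · rw [if_pos h, hgK (l / 2) (by omega)]
    congr 2
    omega
  · rw [if_neg (by omega)]
    simp only [invChk, List.all_eq_true, List.mem_range] at hinv
    have h1 := eqMul_spec (hinv (l / 2) (by omega))
    rw [toMat_idCode, ← hgK (l / 2) (by omega), show 2 * (l / 2) + 1 = l by omega] at h1
    calc φ (gK (l / 2))⁻¹ = φ (gK (l / 2))⁻¹ * (φ (gK (l / 2)) * toMat (li.getD l 0)) := by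
          rw [h1, mul_one]
      _ = toMat (li.getD l 0) := by
          rw [← mul_assoc, ← map_mul, inv_mul_cancel, map_one, one_mul]

theorem ev_code {li : List ℕ} {k : ℕ} (gK : ℕ → K)
    (hgK : ∀ i < k, φ (gK i) = toMat (li.getD (2 * i) 0)) (hinv : invChk li k = true)
    {w : List ℕ} (hw : ∀ l ∈ w, l < 2 * k) : φ (ev gK w) = toMat (wordCode li w) := by
  induction w with
  | nil => rw [ev_nil, map_one, wordCode, toMat_idCode]
  | cons l w ih =>
    rw [ev_cons, map_mul, evL_code gK hgK hinv (hw l (by simp)),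
      ih (fun l' h' => hw l' (by simp [h'])), wordCode, toMat_prodCode]

theorem rowW_spec {li : List ℕ} {k : ℕ} (gK : ℕ → K)
    (hgK : ∀ i < k, φ (gK i) = toMat (li.getD (2 * i) 0)) (hinv : invChk li k = true)
    {w : List ℕ} (hw : ∀ l ∈ w, l < 2 * k) {r : ℕ} (hr : r < 2 ^ 18) :
    rowW li r w < 2 ^ 18 ∧ toVec (rowW li r w) = Matrix.vecMul (toVec r) (φ (ev gK w)) := by
  induction w generalizing r with
  | nil => exact ⟨hr, by rw [rowW, ev_nil, map_one, Matrix.vecMul_one]⟩
  | cons l w ih =>
    rw [rowW, rowMulW_eq hr]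
    obtain ⟨h1, h2⟩ := ih (fun l' h' => hw l' (by simp [h'])) (rowMul_lt r (li.getD l 0))
    refine ⟨h1, ?_⟩
    rw [h2, toVec_rowMul_eq, ev_cons, map_mul, evL_code gK hgK hinv (hw l (by simp)),
      Matrix.vecMul_vecMul]

end

section Main

variable {K : Type u} [Group K] [Finite K] {φ : K →* Matrix (Fin 9) (Fin 9) GF4}
  (hφ : Function.Injective φ) {a b : K} (ha : φ a = toMat aCode) (hb : φ b = toMat bCode)
  (hgen : Subgroup.closure {a, b} = (⊤ : Subgroup K))

include hφ ha hb hgen

/-- the generators of the subgroup of the quotient -/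
def xOf (gK : ℕ → K) (i : ℕ) : K ⧸ Subgroup.center K := QuotientGroup.mk (gK i)

omit [Finite K] hφ ha hb hgen in
theorem ev_xOf (gK : ℕ → K) (w : List ℕ) :
    ev (xOf gK) w = (QuotientGroup.mk (ev gK w) : K ⧸ Subgroup.center K) := by
  have := ev_map (QuotientGroup.mk' (Subgroup.center K)) gK w
  exact this.symm

theorem ev_eq_one_of_scal {li : List ℕ} {k : ℕ} (gK : ℕ → K)
    (hgK : ∀ i < k, φ (gK i) = toMat (li.getD (2 * i) 0)) (hinv : invChk li k = true)
    {w : List ℕ} (hw : lettersOK (2 * k) w = true) (hs : isScal (wordCode li w) = true) :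
    ev (xOf gK) w = 1 := by
  rw [ev_xOf, QuotientGroup.eq_one_iff]
  apply center_of_scalar hφ ha hb hgen
  rw [ev_code gK hgK hinv (lettersOK_spec hw)]
  rcases isScal_iff.1 hs with h | h | h <;> rw [h] <;> simp

theorem glue_main {Γ : Type u} [Group Γ] [Finite Γ] (σ : Γ →* K ⧸ Subgroup.center K)
    (hσ : Cfsg.IsStemExtension σ) (C : Cert) (a' k m : ℕ) (relsL zwsL : List (List ℕ))
    (li : List ℕ) (v keyT sigT ws : ℕ) (gK : ℕ → K)
    (hgK : ∀ i < k, φ (gK i) = toMat (li.getD (2 * i) 0)) (hgK1 : ∀ i, k ≤ i → gK i = 1)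
    (hnl : C.nl = 2 * k)
    (hbase : C.base = mkBase m k (fun b => relsL.getD b []) (fun i => zwsL.getD i []))
    (hzl : zwsL.length = k) (hak : a' ≤ k) (hv : v < 2 ^ 18)
    (hinv : invChk li k = true) (hrel : relChk li a' k m relsL zwsL = true)
    (hnode : ∀ c < C.N, nodeChk li k v C keyT c = true)
    (hsort : sortChk keyT sigT ws C.N = true)
    (htw0 : C.tw 0 = []) (hN : 0 < C.N)
    (hchk : ∀ c l, c < C.N → l < C.nl → C.chkEdge c l = true) :
    Nat.card (Subgroup.closure (Set.range (xOf gK))) = C.N ∧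
    ∃ X z : ℕ → Γ, (∀ i, σ (X i) = xOf gK i) ∧ (∀ j, z j ∈ σ.ker) ∧ (∀ j, m ≤ j → z j = 1) ∧
      (∀ bd b s ρ, C.relVec bd b s = some ρ → zpv z 0 ρ = 1) ∧
      (∀ bd w v', C.walk bd 0 w = some (0, v') → ev X w = zpv z 0 v') ∧
      ∀ g ∈ σ.ker, ∃ w : List ℤ,
        g ^ (Subgroup.closure (Set.range (xOf gK))).index = zpv z 0 w ∧
          ∀ i < a', trk (fun b => relsL.getD b []) i w = 0 := by
  simp only [relChk, Bool.and_eq_true, List.all_eq_true, List.mem_range] at hrel
  obtain ⟨hr1, hr2⟩ := hrel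
  -- the keys of the nodes
  have hkey : ∀ c < C.N, (∀ l ∈ C.tw c, l < 2 * k) ∧
      fld keyT 18 c = key (rowW li v (C.tw c)) := by
    intro c hc
    have := hnode c hc
    simp only [nodeChk, Bool.and_eq_true, beq_iff_eq] at this
    exact ⟨lettersOK_spec this.1, this.2⟩
  have hinjK : ∀ i j, i < C.N → j < C.N → fld keyT 18 i = fld keyT 18 j → i = j := by
    intro i j hi hj e
    refine inj_of_sorted (fun i => fld keyT 18 i) (fun j => fld sigT ws j) C.N ?_ hi hj e
    intro j hj
    simp only [sortChk, List.all_eq_true, List.mem_range, Bool.and_eq_true,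
      decide_eq_true_eq] at hsort
    obtain ⟨⟨h1, h2⟩, h3⟩ := hsort j (by omega)
    exact ⟨h1, h2, h3⟩
  refine stem_gen σ hσ C a' k m (fun b => relsL.getD b []) (fun i => zwsL.getD i []) (xOf gK)
    hnl hbase ?_ ?_ ?_ ?_ ?_ ?_ ?_ htw0 hN hchk
  · intro i hi
    unfold xOf
    rw [hgK1 i hi]
    rfl
  · intro i hi
    exact List.getD_eq_default _ _ (by omega)
  · intro b hb'
    have := hr1 b hb'
    exact ev_eq_one_of_scal hφ ha hb hgen gK hgK hinv this.1 this.2
  · intro i hi
    obtain ⟨⟨h1, h2⟩, -⟩ := hr2 i hi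
    have h3 : lettersOK (2 * k) ((2 * i + 1) :: zwsL.getD i []) = true := by
      simp only [lettersOK, List.all_cons, Bool.and_eq_true, decide_eq_true_eq]
      exact ⟨by omega, h1⟩
    have h4 := ev_eq_one_of_scal hφ ha hb hgen gK hgK hinv h3 h2
    rw [ev_cons] at h4
    have h5 : evL (xOf gK) (2 * i + 1) = (xOf gK i)⁻¹ := by
      unfold evL
      rw [if_neg (by omega)]
      congr 2
      omega
    rw [h5] at h4
    exact (inv_mul_eq_one.mp h4).symm
  · intro i hi
    have := (hr2 i (by omega)).2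
    rw [if_pos hi] at this
    simpa using this
  · intro i hai hi
    have := (hr2 i hi).2
    rw [if_neg (by omega)] at this
    exact this
  · intro c hc c' hc' e
    rw [ev_xOf, ev_xOf] at e
    obtain ⟨hl, hk1⟩ := hkey c hc
    obtain ⟨hl', hk2⟩ := hkey c' hc'
    obtain ⟨b1, e1⟩ := rowW_spec gK hgK hinv hl hv
    obtain ⟨b2, e2⟩ := rowW_spec gK hgK hinv hl' hv
    have hcen : (ev gK (C.tw c))⁻¹ * ev gK (C.tw c') ∈ Subgroup.center K := by
      rw [← QuotientGroup.eq]
      exact e
    have hsc := scalar_of_center hφ ha hb hgen hcen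
    have hs : ∃ s, (s = idCode ∨ s = wICode ∨ s = w2ICode) ∧
        φ (ev gK (C.tw c')) = φ (ev gK (C.tw c)) * toMat s := by
      have hmul : φ (ev gK (C.tw c')) =
          φ (ev gK (C.tw c)) * φ ((ev gK (C.tw c))⁻¹ * ev gK (C.tw c')) := by
        rw [← map_mul, mul_inv_cancel_left]
      rcases hsc with h | h | h
      · exact ⟨idCode, Or.inl rfl, by rw [hmul, h]⟩
      · exact ⟨wICode, Or.inr (Or.inl rfl), by rw [hmul, h]⟩
      · exact ⟨w2ICode, Or.inr (Or.inr rfl), by rw [hmul, h]⟩
    obtain ⟨s, hs1, hs2⟩ := hs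
    have e3 : rowW li v (C.tw c') = rowMul (rowW li v (C.tw c)) s := by
      apply toVec_inj b2 (rowMul_lt _ _)
      rw [e2, hs2, ← Matrix.vecMul_vecMul, ← e1, toVec_rowMul_eq]
    have e4 : fld keyT 18 c = fld keyT 18 c' := by
      rw [hk1, hk2, e3, key_rowMul_scal b1 hs1]
    exact hinjK c c' hc hc' e4

end Main

end Cfsg.Agent.Helper7.J3Mult
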