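import Cfsg.Agent.Helper98.J3Out
import Cfsg.Agent.Helper96.StemBound

/-!
# `3·J₃` is a stem extension of `J₃` with kernel of order three
-/

set_option autoImplicit false

namespace Cfsg.Agent.Helper7.J3Mult

open Cfsg.Agent.Helper27 Cfsg.Agent.Helper98.J3

open scoped commutatorElement

universe u

section

variable {K : Type u} [Group K] [Finite K] {φ : K →* Matrix (Fin 9) (Fin 9) GF4}
  (hφ : Function.Injective φ) {a b : K} (ha : φ a = toMat aCode) (hb : φ b = toMat bCode)
  (hgen : Subgroup.closure {a, b} = (⊤ : Subgroup K))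

include hφ ha hb hgen

/-- the simple quotient is perfect -/
theorem commutator_quotient : commutator (K ⧸ Subgroup.center K) = ⊤ := by
  obtain ⟨-, -, hs, hc⟩ := main hφ ha hb hgen
  have := hs
  rcases (inferInstance : (commutator (K ⧸ Subgroup.center K)).Normal).eq_bot_or_eq_top
    with h | h
  · exfalso
    have hcomm : ∀ x y : K ⧸ Subgroup.center K, x * y = y * x := by
      intro x y
      have : ⁅x, y⁆ ∈ commutator (K ⧸ Subgroup.center K) := by
        rw [commutator_def]
        exact Subgroup.commutator_mem_commutator (Subgroup.mem_top x) (Subgroup.mem_top y)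
      rw [h, Subgroup.mem_bot] at this
      exact commutatorElement_eq_one_iff_mul_comm.mp this
    have hbot := center_eq_bot_of_simple (G := K ⧸ Subgroup.center K) (by rw [hc]; norm_num)
    have htop : Subgroup.center (K ⧸ Subgroup.center K) = ⊤ := by
      rw [eq_top_iff]
      intro x _
      rw [Subgroup.mem_center_iff]
      intro y
      exact hcomm y x
    rw [hbot] at htop
    have h1 : Nat.card (⊥ : Subgroup (K ⧸ Subgroup.center K)) = 1 := Subgroup.card_bot
    rw [htop, Subgroup.card_top, hc] at h1
    norm_num at h1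
  · exact h

/-- elements of order prime to three lie in the derived subgroup -/
theorem mem_commutator_of_pow {x : K} {n : ℕ} (hx : x ^ n = 1) (hn : n % 3 = 2) :
    x ∈ commutator K := by
  have hc3 := (main hφ ha hb hgen).2.1
  have hmap : (commutator K).map (QuotientGroup.mk' (Subgroup.center K)) = ⊤ := by
    rw [← commutator_quotient hφ ha hb hgen, commutator_def, commutator_def,
      Subgroup.map_commutator, ← MonoidHom.range_eq_map,
      MonoidHom.range_eq_top.mpr (QuotientGroup.mk'_surjective (Subgroup.center K))]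
  have hmem : QuotientGroup.mk' (Subgroup.center K) x ∈
      (commutator K).map (QuotientGroup.mk' (Subgroup.center K)) := by
    rw [hmap]; exact Subgroup.mem_top _
  obtain ⟨e', he', heq⟩ := hmem
  have hc : e'⁻¹ * x ∈ Subgroup.center K := by
    rw [← QuotientGroup.eq]
    exact heq
  have hcube : (e'⁻¹ * x) ^ 3 = 1 := by
    have := pow_card_eq_one' (G := ↥(Subgroup.center K)) (x := ⟨e'⁻¹ * x, hc⟩)
    rw [hc3] at this
    exact congrArg Subtype.val this
  have hcomm : Commute e' (e'⁻¹ * x) := Subgroup.mem_center_iff.mp hc e'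
  have hxe : x = e' * (e'⁻¹ * x) := by group
  have hpow : (e'⁻¹ * x) ^ n = (e' ^ n)⁻¹ := by
    have h1 : x ^ n = e' ^ n * (e'⁻¹ * x) ^ n := by
      conv_lhs => rw [hxe]
      exact hcomm.mul_pow n
    rw [hx] at h1
    exact eq_inv_of_mul_eq_one_right h1.symm
  have hsq : (e'⁻¹ * x) ^ 2 ∈ commutator K := by
    have h2 : (e'⁻¹ * x) ^ n = (e'⁻¹ * x) ^ 2 := by
      have : n = 3 * (n / 3) + 2 := by omega
      rw [this, pow_add, pow_mul, hcube, one_pow, one_mul]
    rw [← h2, hpow]
    exact Subgroup.inv_mem _ (Subgroup.pow_mem _ he' n)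
  have hcm : e'⁻¹ * x ∈ commutator K := by
    have h3 : e'⁻¹ * x = ((e'⁻¹ * x) ^ 2)⁻¹ := by
      apply eq_inv_of_mul_eq_one_right
      rw [← pow_succ, hcube]
    rw [h3]
    exact Subgroup.inv_mem _ hsq
  rw [hxe]
  exact Subgroup.mul_mem _ he' hcm

theorem commutator_K : commutator K = ⊤ := by
  have h1 : a ∈ commutator K := by
    apply mem_commutator_of_pow hφ ha hb hgen (n := 2) _ (by norm_num)
    rw [← order_a hφ ha]
    exact pow_orderOf_eq_one a
  have h2 : b ∈ commutator K := by
    apply mem_commutator_of_pow hφ ha hb hgen (n := 17) _ (by norm_num)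
    rw [← order_b hφ hb]
    exact pow_orderOf_eq_one b
  rw [eq_top_iff, ← hgen, Subgroup.closure_le]
  intro g hg
  rcases hg with rfl | rfl
  · exact h1
  · exact h2

/-- `3·J₃ → J₃` is a stem extension whose kernel is cyclic of order three -/
theorem lower_K : ∃ (Γ : Type u) (_ : Group Γ) (_ : Finite Γ) (σ : Γ →* K ⧸ Subgroup.center K),
    Cfsg.IsStemExtension σ ∧ Nonempty (σ.ker ≃* Multiplicative (ZMod 3)) := by
  refine ⟨K, inferInstance, inferInstance, QuotientGroup.mk' (Subgroup.center K),
    Cfsg.Agent.Helper96.StemBound.isStemExtension_mk'_center (commutator_K hφ ha hb hgen), ?_⟩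
  have hc : Nat.card (QuotientGroup.mk' (Subgroup.center K)).ker = 3 := by
    rw [QuotientGroup.ker_mk']
    exact (main hφ ha hb hgen).2.1
  have : Fact (Nat.Prime 3) := ⟨Nat.prime_three⟩
  have hcyc : IsCyclic (QuotientGroup.mk' (Subgroup.center K)).ker := isCyclic_of_prime_card hc
  have e := zmodCyclicMulEquiv hcyc
  rw [hc] at e
  exact ⟨e.symm⟩

end

end Cfsg.Agent.Helper7.J3Mult
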