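import Cfsg.Agent.Helper98.J3Out
import Cfsg.Agent.Helper98.J3LineDef

/-!
# Packed row vectors over `GF4` up to scalars

The key of a packed row is the least of its three multiples by the powers of `ω`; rows that differ
by a scalar matrix `1`, `ω`, `ω²` have the same key.
-/

set_option autoImplicit false

namespace Cfsg.Agent.Helper7.J3Mult

open Cfsg.Agent.Helper27 Cfsg.Agent.Helper98.J3

theorem toVec_rowMul_eq (r B : ℕ) : toVec (rowMul r B) = Matrix.vecMul (toVec r) (toMat B) := by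
  funext j
  rw [toVec, entRow_rowMul _ _ j.isLt, Matrix.vecMul, dotProduct]
  rfl

theorem toMat_wICode : toMat wICode = GF4.w • (1 : Matrix (Fin 9) (Fin 9) GF4) := by
  ext i j
  have h : ∀ i j : Fin 9, entRow (rowOf wICode i.val) j.val = if i = j then GF4.w else 0 := by
    decide +kernel
  rw [toMat, h, Matrix.smul_apply, Matrix.one_apply, smul_eq_mul]
  split_ifs <;> simp

theorem toMat_w2ICode : toMat w2ICode = (GF4.w * GF4.w) • (1 : Matrix (Fin 9) (Fin 9) GF4) := by
  rw [← eqMul_spec ordW_ok.1, toMat_wICode, Matrix.smul_mul, Matrix.mul_smul, mul_one, smul_smul]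

theorem w_cube : GF4.w * GF4.w * GF4.w = 1 := by decide

theorem wRow_wRow_wRow {r : ℕ} (hr : r < 2 ^ 18) : wRow (wRow (wRow r)) = r := by
  apply toVec_inj (wRow_lt (wRow_lt (wRow_lt hr))) hr
  rw [toVec_wRow (wRow_lt (wRow_lt hr)), toVec_wRow (wRow_lt hr), toVec_wRow hr, smul_smul,
    smul_smul, w_cube, one_smul]

/-- the least of the three scalar multiples -/
def key (r : ℕ) : ℕ := min r (min (wRowR r) (wRowR (wRowR r)))

theorem key_wRow {r : ℕ} (hr : r < 2 ^ 18) : key (wRow r) = key r := by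
  unfold key
  simp only [wRowR_eq]
  rw [wRow_wRow_wRow hr]
  rw [min_comm r, min_assoc]

theorem rowMul_idCode {r : ℕ} (hr : r < 2 ^ 18) : rowMul r idCode = r := by
  apply toVec_inj (rowMul_lt _ _) hr
  rw [toVec_rowMul_eq, toMat_idCode, Matrix.vecMul_one]

theorem rowMul_wICode {r : ℕ} (hr : r < 2 ^ 18) : rowMul r wICode = wRow r := by
  apply toVec_inj (rowMul_lt _ _) (wRow_lt hr)
  rw [toVec_rowMul_eq, toMat_wICode, Matrix.vecMul_smul, Matrix.vecMul_one, toVec_wRow hr]

theorem rowMul_w2ICode {r : ℕ} (hr : r < 2 ^ 18) : rowMul r w2ICode = wRow (wRow r) := by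
  apply toVec_inj (rowMul_lt _ _) (wRow_lt (wRow_lt hr))
  rw [toVec_rowMul_eq, toMat_w2ICode, Matrix.vecMul_smul, Matrix.vecMul_one,
    toVec_wRow (wRow_lt hr), toVec_wRow hr, smul_smul]

theorem key_rowMul_scal {r s : ℕ} (hr : r < 2 ^ 18)
    (hs : s = idCode ∨ s = wICode ∨ s = w2ICode) : key (rowMul r s) = key r := by
  rcases hs with rfl | rfl | rfl
  · rw [rowMul_idCode hr]
  · rw [rowMul_wICode hr, key_wRow hr]
  · rw [rowMul_w2ICode hr, key_wRow (wRow_lt hr), key_wRow hr]

end Cfsg.Agent.Helper7.J3Mult
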