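import Cfsg.Agent.Helper7.J3Mult.q3Data

set_option autoImplicit false
set_option maxRecDepth 1000000
set_option maxHeartbeats 0

namespace Cfsg.Agent.Helper7.J3Mult

open Cfsg.Agent.Helper7.ModTC

theorem q3_chk3 : q3C.chkRange 768 256 = true := by decide +kernel

end Cfsg.Agent.Helper7.J3Mult
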