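import Cfsg.Agent.Helper7.J3Mult.q3Node0
import Cfsg.Agent.Helper7.J3Mult.q3Node1
import Cfsg.Agent.Helper7.J3Mult.q3Node2
import Cfsg.Agent.Helper7.J3Mult.q3Node3
import Cfsg.Agent.Helper7.J3Mult.q3ChkAll
import Cfsg.Agent.Helper7.J3Mult.Gens
import Cfsg.Agent.Helper7.ModTC.LinGen

/-!
# The `3`-part of the Schur multiplier of `J₃`

The normaliser `3².3^{1+2}:8` of a Sylow `3`-subgroup (the image of the monomial matrices of the
definition, of order `1944`) is generated by `t = B_{1+i}` and `d = D_1`; the labelled coset table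
on these two generators shows that the `25840`-th powers of the elements of the kernel of a finite
stem extension lie in a cyclic group of order dividing `3`.
-/

set_option autoImplicit false
set_option maxRecDepth 1000000
set_option maxHeartbeats 0

namespace Cfsg.Agent.Helper7.J3Mult

open Cfsg.Agent.Helper27 Cfsg.Agent.Helper98.J3 Cfsg.Agent.Helper7.ModTC

universe u

theorem q3_node : ∀ c < q3C.N, nodeChk q3Li 2 q3V q3C q3KeyT c = true := by
  intro c hc
  have hc' : c < 1944 := hc
  rcases Nat.lt_or_ge c 512 with h0 | h0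
  · exact nodeRange_spec q3_node0 (by omega) (by omega)
  rcases Nat.lt_or_ge c 1024 with h1 | h1
  · exact nodeRange_spec q3_node1 (by omega) (by omega)
  rcases Nat.lt_or_ge c 1536 with h2 | h2
  · exact nodeRange_spec q3_node2 (by omega) (by omega)
  exact nodeRange_spec q3_node3 (by omega) (by omega)

theorem q3_inv : invChk q3Li 2 = true := by decide +kernel

theorem q3_rel : relChk q3Li 1 2 5 q3Rels q3Zws = true := by decide +kernel

theorem q3_sort : sortChk q3KeyT q3SigT q3Ws 1944 = true := by decide +kernel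

theorem q3_slp : slpOK q3Slp q3Prog 43 = true := by decide +kernel

theorem q3_slp_facts : (∀ k < 43, q3Slp.getD k 0 = genCodes.getD k 0) ∧
    ∀ l < 4, q3Ix.getD l 0 < q3Slp.length ∧ q3Slp.getD (q3Ix.getD l 0) 0 = q3Li.getD l 0 := by
  decide +kernel

def q3Pairs : List (ℕ × ℕ) := [(0, 280), (2, 1293), (2, 335), (3, 706)]

def q3U : List (List ℤ) := [[0, 0, 0, 0], [1, 0, -1, 0], [0, 1, 0, 0], [0, 0, 0, 0], [1, 0, 0, 0]]

def q3U0 : List ℤ := [1, 0, -1, -1]

def q3Eps : List ℤ := [0, 0, 0, 1, 0]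

theorem q3_lin0 : lincomb q3U0 (relList q3C 7777 q3Pairs) = vsmul 3 (padUnit 5 3) := by
  decide +kernel

theorem q3_lin : ∀ j, 1 ≤ j → j < 5 → lincomb (q3U.getD j []) (relList q3C 7777 q3Pairs) =
    vadd (padUnit 5 j) (vsmul (-(q3Eps.getD j 0)) (padUnit 5 3)) := by
  decide +kernel

theorem q3_esum : ∀ j, j ≠ 0 → (esum (q3Rels.getD j [])).getD 0 0 = 0 := by
  intro j hj
  rcases Nat.lt_or_ge j 5 with h | h
  · have : ∀ j < 5, j ≠ 0 → (esum (q3Rels.getD j [])).getD 0 0 = 0 := by decide
    exact this j h hj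
  · have hl : q3Rels.length = 5 := rfl
    have hd : q3Rels.getD j [] = [] := List.getD_eq_default _ _ (by omega)
    rw [hd]
    rfl

theorem q3_esum0 : (esum (q3Rels.getD 0 [])).getD 0 0 = 8 := by decide

section

variable {K : Type u} [Group K] [Finite K] {φ : K →* Matrix (Fin 9) (Fin 9) GF4}
  (hφ : Function.Injective φ) {a b : K} (ha : φ a = toMat aCode) (hb : φ b = toMat bCode)
  (hgen : Subgroup.closure {a, b} = (⊤ : Subgroup K))

include hφ ha hb hgen

/-- the `25840`-th powers of the elements of the kernel of a finite stem extension of `J₃` lie in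
a cyclic subgroup of order dividing three -/
theorem q3_main {Γ : Type u} [Group Γ] [Finite Γ] (σ : Γ →* K ⧸ Subgroup.center K)
    (hσ : Cfsg.IsStemExtension σ) :
    ∃ ζ ∈ σ.ker, ζ ^ 3 = 1 ∧ ∀ g ∈ σ.ker, g ^ 25840 ∈ Subgroup.zpowers ζ := by
  obtain ⟨gK, hgK, hgK1⟩ := exists_letters ha hb q3_slp q3_slp_facts.1 2 (by decide)
    q3_slp_facts.2
  obtain ⟨hcard, X, z, -, hzker, hzm, hrel, -, hker⟩ :=
    glue_main hφ ha hb hgen σ hσ q3C 1 2 5 q3Rels q3Zws q3Li q3V q3KeyT q3SigT q3Ws gK hgK hgK1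
      rfl rfl rfl (by norm_num) (by decide) q3_inv q3_rel q3_node q3_sort (by decide +kernel)
      (by decide) q3_chk
  have hz : ∀ j, z j ∈ Subgroup.center Γ := fun j => hσ.2.1 (hzker j)
  have hidx : (Subgroup.closure (Set.range (xOf gK))).index = 25840 := by
    have h2 := Subgroup.card_mul_index (Subgroup.closure (Set.range (xOf gK)))
    rw [hcard, (main hφ ha hb hgen).2.2.2] at h2
    have : q3C.N = 1944 := rfl
    rw [this] at h2
    omega
  obtain ⟨h3, hall⟩ := cyc_case hz 5 3 1 3 hzm _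
    (relList_spec (C := q3C) (bd := 7777) (pairs := q3Pairs) hrel) q3Eps q3U0 q3U
    q3_lin0 q3_lin
  refine ⟨z 3, hzker 3, by exact_mod_cast h3, ?_⟩
  intro g hg
  obtain ⟨w, hw, htrk⟩ := hker g hg
  rw [hidx] at hw
  rw [hw]
  apply hall
  intro j hj
  have hj0 : j = 0 := by omega
  subst hj0
  have h4 := htrk 0 (by norm_num)
  unfold trk at h4
  rw [wsum_single _ 0 q3_esum 0 w, if_pos le_rfl, q3_esum0] at h4
  simpa using h4

end

end Cfsg.Agent.Helper7.J3Mult
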