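import Cfsg.Agent.Helper7.J3Mult.q2Main
import Cfsg.Agent.Helper7.J3Mult.q3Main

/-!
# The kernel of a finite stem extension of `J₃` is cyclic of order dividing three
-/

set_option autoImplicit false

namespace Cfsg.Agent.Helper7.J3Mult

open Cfsg.Agent.Helper27 Cfsg.Agent.Helper98.J3 Cfsg.Agent.Helper7.ModTC

universe u

/-- a homomorphism from `Multiplicative (ZMod 3)` onto a subgroup contained in a cyclic group
generated by an element of order dividing three -/
theorem exists_surjective_of_three {Γ : Type u} [Group Γ] (K' : Subgroup Γ) (ζ : Γ)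
    (hζ : ζ ∈ K') (h3 : ζ ^ 3 = 1) (hK : ∀ g ∈ K', g ∈ Subgroup.zpowers ζ) :
    ∃ π : Multiplicative (ZMod 3) →* K', Function.Surjective π := by
  have hmul : ∀ a b : ZMod 3, ζ ^ (a + b).val = ζ ^ a.val * ζ ^ b.val := by
    intro a b
    have hval : ∀ a b : ZMod 3, (a + b).val = a.val + b.val ∨ (a + b).val + 3 = a.val + b.val := by
      decide
    rcases hval a b with h | h
    · rw [h, pow_add]
    · rw [← pow_add, ← h, pow_add, h3, mul_one]
  refine ⟨MonoidHom.mk' (fun a => ⟨ζ ^ (Multiplicative.toAdd a).val, pow_mem hζ _⟩) ?_, ?_⟩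
  · intro a b
    apply Subtype.ext
    exact hmul (Multiplicative.toAdd a) (Multiplicative.toAdd b)
  · rintro ⟨g, hg⟩
    obtain ⟨n, rfl⟩ := Subgroup.mem_zpowers_iff.1 (hK g hg)
    have h1 : 0 ≤ n % 3 := Int.emod_nonneg _ (by norm_num)
    have h2 : n % 3 < 3 := Int.emod_lt_of_pos _ (by norm_num)
    obtain ⟨r, hr⟩ := Int.eq_ofNat_of_zero_le h1
    have hr3 : r < 3 := by omega
    have e : ζ ^ n = ζ ^ r := by
      have : n = 3 * (n / 3) + n % 3 := (Int.mul_ediv_add_emod n 3).symm
      rw [this, zpow_add, zpow_mul, hr]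
      have : ζ ^ (3 : ℤ) = 1 := by exact_mod_cast h3
      rw [this, one_zpow, one_mul, zpow_natCast]
    refine ⟨Multiplicative.ofAdd (r : ZMod 3), ?_⟩
    apply Subtype.ext
    show ζ ^ ((r : ZMod 3)).val = ζ ^ n
    rw [e, ZMod.val_natCast, Nat.mod_eq_of_lt hr3]

section

variable {K : Type u} [Group K] [Finite K] {φ : K →* Matrix (Fin 9) (Fin 9) GF4}
  (hφ : Function.Injective φ) {a b : K} (ha : φ a = toMat aCode) (hb : φ b = toMat bCode)
  (hgen : Subgroup.closure {a, b} = (⊤ : Subgroup K))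

include hφ ha hb hgen

/-- an element of `K` of prime order `p ≠ 3` has an image of order `p` in the central quotient,
and the kernel of a stem extension is killed by `|J₃| / p` -/
theorem ker_pow_of_order {Γ : Type u} [Group Γ] [Finite Γ] (σ : Γ →* K ⧸ Subgroup.center K)
    (hσ : Cfsg.IsStemExtension σ) {e : K} {p : ℕ} (hp : p.Prime) (he : orderOf e = p)
    (hp3 : ¬ p ∣ 3) {n : ℕ} (hn : p * n = 50232960) : ∀ g ∈ σ.ker, g ^ n = 1 := by
  have : Fact p.Prime := ⟨hp⟩
  have hcard := (main hφ ha hb hgen).2.2.2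
  have hc3 := (main hφ ha hb hgen).2.1
  have ho : orderOf (QuotientGroup.mk e : K ⧸ Subgroup.center K) = p := by
    apply orderOf_eq_prime
    · rw [← QuotientGroup.mk_pow, ← he, pow_orderOf_eq_one]
      rfl
    · intro h
      have h1 : e ∈ Subgroup.center K := (QuotientGroup.eq_one_iff _).1 h
      have h2 := Subgroup.orderOf_dvd_natCard _ h1
      rw [he, hc3] at h2
      exact hp3 h2
  have hidx : (Subgroup.zpowers (QuotientGroup.mk e : K ⧸ Subgroup.center K)).index = n := by
    have h2 := Subgroup.card_mul_index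
      (Subgroup.zpowers (QuotientGroup.mk e : K ⧸ Subgroup.center K))
    rw [Nat.card_zpowers, ho, hcard, ← hn] at h2
    exact Nat.eq_of_mul_eq_mul_left hp.pos h2
  intro g hg
  have := Cfsg.Agent.Helper96.StemBound.ker_pow_index_zpowers σ hσ
    (QuotientGroup.mk e : K ⧸ Subgroup.center K) hg
  rwa [hidx] at this

/-- the kernel of a finite stem extension of `J₃` is a quotient of the cyclic group of order
three -/
theorem upper_K {Γ : Type u} [Group Γ] [Finite Γ] (σ : Γ →* K ⧸ Subgroup.center K)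
    (hσ : Cfsg.IsStemExtension σ) :
    ∃ π : Multiplicative (ZMod 3) →* σ.ker, Function.Surjective π := by
  obtain ⟨ζ, hζ, h3, h25840⟩ := q3_main hφ ha hb hgen σ hσ
  have h26163 := q2_main hφ ha hb hgen σ hσ
  obtain ⟨-, -, -, -, ⟨e19, he19⟩, -⟩ := elements ha hb
  have h17 := ker_pow_of_order hφ ha hb hgen σ hσ (by norm_num : Nat.Prime 17)
    (order_b hφ hb) (by norm_num) (n := 2954880) (by norm_num)
  have h19 := ker_pow_of_order hφ ha hb hgen σ hσ (by norm_num : Nat.Prime 19)
    (order_e19 hφ he19) (by norm_num) (n := 2643840) (by norm_num)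
  apply exists_surjective_of_three σ.ker ζ hζ h3
  intro g hg
  have hz3 : ∀ y ∈ Subgroup.zpowers ζ, y ^ 3 = 1 := by
    intro y hy
    obtain ⟨n, rfl⟩ := Subgroup.mem_zpowers_iff.1 hy
    rw [← zpow_natCast, ← zpow_mul, mul_comm, zpow_mul, zpow_natCast, h3, one_zpow]
  have d1 : orderOf g ∣ 26163 := orderOf_dvd_of_pow_eq_one (h26163 g hg)
  have d2 : orderOf g ∣ 77520 := by
    apply orderOf_dvd_of_pow_eq_one
    have := hz3 _ (h25840 g hg)
    rwa [← pow_mul] at this
  have d3 : orderOf g ∣ 2954880 := orderOf_dvd_of_pow_eq_one (h17 g hg)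
  have d4 : orderOf g ∣ 2643840 := orderOf_dvd_of_pow_eq_one (h19 g hg)
  have d : orderOf g ∣ 3 := by
    have e1 := Nat.dvd_gcd (Nat.dvd_gcd d1 d2) (Nat.dvd_gcd d3 d4)
    have : Nat.gcd (Nat.gcd 26163 77520) (Nat.gcd 2954880 2643840) = 3 := by norm_num
    rwa [this] at e1
  have hg3 : g ^ 3 = 1 := orderOf_dvd_iff_pow_eq_one.1 d
  have : g ^ 25840 = g := by
    have : (25840 : ℕ) = 3 * 8613 + 1 := by norm_num
    rw [this, pow_succ, pow_mul, hg3, one_pow, one_mul]
  rw [← this]
  exact h25840 g hg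

end

end Cfsg.Agent.Helper7.J3Mult
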