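import Cfsg.Agent.Helper7.J3Mult.q2GData

set_option autoImplicit false
set_option maxRecDepth 1000000
set_option maxHeartbeats 0

namespace Cfsg.Agent.Helper7.J3Mult

theorem q2_node2 : nodeRange q2Li 3 q2V Cfsg.Agent.Helper7.J2Mult.p2C q2KeyT 1024 512 = true := by
  decide +kernel

end Cfsg.Agent.Helper7.J3Mult
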