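import Cfsg.Agent.Helper7.J3Mult.q2Node0
import Cfsg.Agent.Helper7.J3Mult.q2Node1
import Cfsg.Agent.Helper7.J3Mult.q2Node2
import Cfsg.Agent.Helper7.J3Mult.q2Node3
import Cfsg.Agent.Helper7.J2Mult.p2ChkAll
import Cfsg.Agent.Helper7.J3Mult.Gens
import Cfsg.Agent.Helper7.ModTC.LinGen
import Cfsg.Agent.Helper98.J3StrGen

/-!
# The `2`-part of the Schur multiplier of `J₃`

The centraliser `2^{1+4}:A₅` of an involution of `J₃` is isomorphic to the one of `J₂`; we reuse
the labelled coset table of `J2Mult` (which bounds the `2`-part by two, generated by the square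
`ζ` of the lift of a non-central involution) for three involutions of `J₃` satisfying the same
relations. The lift of the central involution squares to `1`; since all involutions of `J₃` are
conjugate, `ζ` is a square in the kernel, hence trivial.
-/

set_option autoImplicit false
set_option maxRecDepth 1000000
set_option maxHeartbeats 0

namespace Cfsg.Agent.Helper7.J3Mult

open Cfsg.Agent.Helper27 Cfsg.Agent.Helper98.J3 Cfsg.Agent.Helper7.ModTC
open Cfsg.Agent.Helper7.J2Mult (p2C p2Rels p2Zws p2_chk)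

universe u

theorem q2_node : ∀ c < p2C.N, nodeChk q2Li 3 q2V p2C q2KeyT c = true := by
  intro c hc
  have hc' : c < 1920 := hc
  rcases Nat.lt_or_ge c 512 with h0 | h0
  · exact nodeRange_spec q2_node0 (by omega) (by omega)
  rcases Nat.lt_or_ge c 1024 with h1 | h1
  · exact nodeRange_spec q2_node1 (by omega) (by omega)
  rcases Nat.lt_or_ge c 1536 with h2 | h2
  · exact nodeRange_spec q2_node2 (by omega) (by omega)
  exact nodeRange_spec q2_node3 (by omega) (by omega)

theorem q2_inv : invChk q2Li 3 = true := by decide +kernel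

theorem q2_rel : relChk q2Li 0 3 6 p2Rels p2Zws = true := by decide +kernel

theorem q2_sort : sortChk q2KeyT q2SigT q2Ws 1920 = true := by decide +kernel

theorem q2_slp : slpOK q2Slp q2Prog 43 = true := by decide +kernel

theorem q2_slp_facts : (∀ k < 43, q2Slp.getD k 0 = genCodes.getD k 0) ∧
    ∀ l < 6, q2Ix.getD l 0 < q2Slp.length ∧ q2Slp.getD (q2Ix.getD l 0) 0 = q2Li.getD l 0 := by
  decide +kernel

def q2Pairs : List (ℕ × ℕ) := [(5, 90), (0, 383), (0, 1720), (1, 102), (1, 169), (2, 712)]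

def q2U : List (List ℤ) := [[0, 0, 0, 0, 0, 0], [0, 0, -1, 0, 0, -1], [0, -1, 0, 0, 1, -1], [1, 0, 0, 0, 0, 0], [0, 0, -1, 0, 0, 0], [0, 0, 0, -1, 0, 0]]

def q2U0 : List ℤ := [0, 1, 1, 0, 0, 1]

def q2Eps : List ℤ := [1, 1, 1, 0, 1, 1]

/-- the coefficients of the square of the lift of the central involution -/
def q2Cz : List ℤ := [2, -1, 4, -8, 9, -7]

/-- the word of the central involution -/
def q2Wz : List ℕ := [0, 2, 4, 0, 2, 4, 0, 2, 4, 0, 2, 4, 0, 2, 4]

theorem q2_lin0 : lincomb q2U0 (relList p2C 11521 q2Pairs) = vsmul 2 (padUnit 6 0) := by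
  decide +kernel

theorem q2_lin : ∀ j < 6, lincomb (q2U.getD j []) (relList p2C 11521 q2Pairs) =
    vadd (padUnit 6 j) (vsmul (-(q2Eps.getD j 0)) (padUnit 6 0)) := by
  decide +kernel

theorem q2_linz : lincomb q2Cz (relList p2C 11521 q2Pairs) = [-5, 6, 9, 2, -2, 8] := by
  decide +kernel

theorem q2_walkz : p2C.walk 11521 0 (q2Wz ++ q2Wz) = some (0, [-5, 6, 9, 2, -2, 8]) := by
  decide +kernel

theorem q2_walku : p2C.walk 11521 0 [0, 0] = some (0, [1, 0, 0, 0, 0, 0]) := by
  decide +kernel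

theorem q2_codes : isScal (q2Li.getD 0 0) = false ∧ isScal (wordCode q2Li q2Wz) = false ∧
    q2Li.getD 0 0 < 2 ^ 162 ∧ lettersOK 6 q2Wz = true := by
  decide +kernel

section

variable {K : Type u} [Group K] [Finite K] {φ : K →* Matrix (Fin 9) (Fin 9) GF4}
  (hφ : Function.Injective φ) {a b : K} (ha : φ a = toMat aCode) (hb : φ b = toMat bCode)
  (hgen : Subgroup.closure {a, b} = (⊤ : Subgroup K))

include hφ ha hb hgen

/-- an element whose code is not scalar is not central -/
theorem not_center_of_code {g : K} {c : ℕ} (hg : φ g = toMat c) (hc : c < 2 ^ 162)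
    (hs : isScal c = false) : g ∉ Subgroup.center K := by
  intro h
  obtain ⟨l1, l2, l3⟩ := scal_lt
  have : isScal c = true := by
    rw [isScal_iff]
    rcases scalar_of_center hφ ha hb hgen h with h1 | h1 | h1
    · left; exact toMat_inj hc l1 (hg.symm.trans h1)
    · right; left; exact toMat_inj hc l2 (hg.symm.trans h1)
    · right; right; exact toMat_inj hc l3 (hg.symm.trans h1)
  rw [hs] at this
  exact Bool.false_ne_true this

/-- the `26163`-th powers of the elements of the kernel of a finite stem extension of `J₃` are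
trivial -/
theorem q2_main {Γ : Type u} [Group Γ] [Finite Γ] (σ : Γ →* K ⧸ Subgroup.center K)
    (hσ : Cfsg.IsStemExtension σ) : ∀ g ∈ σ.ker, g ^ 26163 = 1 := by
  obtain ⟨gK, hgK, hgK1⟩ := exists_letters ha hb q2_slp q2_slp_facts.1 3 (by decide)
    q2_slp_facts.2
  obtain ⟨hcard, X, z, hσX, hzker, hzm, hrel, hwalk, hker⟩ :=
    glue_main hφ ha hb hgen σ hσ p2C 0 3 6 p2Rels p2Zws q2Li q2V q2KeyT q2SigT q2Ws gK hgK hgK1
      rfl rfl rfl (by norm_num) (by decide) q2_inv q2_rel q2_node q2_sort (by decide +kernel)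
      (by decide) p2_chk
  have hz : ∀ j, z j ∈ Subgroup.center Γ := fun j => hσ.2.1 (hzker j)
  have hidx : (Subgroup.closure (Set.range (xOf gK))).index = 26163 := by
    have h2 := Subgroup.card_mul_index (Subgroup.closure (Set.range (xOf gK)))
    rw [hcard, (main hφ ha hb hgen).2.2.2] at h2
    have : p2C.N = 1920 := rfl
    rw [this] at h2
    omega
  have hρ := relList_spec (C := p2C) (bd := 11521) (pairs := q2Pairs) hrel
  obtain ⟨h2, hall⟩ := two_case hz 6 0 hzm _ hρ q2Eps q2U0 q2U q2_lin0 q2_lin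
  obtain ⟨c1, c2, c3, c4⟩ := q2_codes
  -- the squares of the two lifts
  have hzz : ev X q2Wz * ev X q2Wz = 1 := by
    rw [← ev_append, hwalk _ _ _ q2_walkz, ← q2_linz]
    exact zpv_lincomb hz _ hρ _
  have huu : X 0 * X 0 = z 0 := by
    have := hwalk _ _ _ q2_walku
    simpa [ev, evL, zpv] using this
  -- the two involutions of the quotient
  have hσX' : (fun i => σ (X i)) = xOf gK := funext hσX
  have eu : σ (X 0) = xOf gK 0 := hσX 0
  have ez : σ (ev X q2Wz) = ev (xOf gK) q2Wz := by rw [ev_map, hσX']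
  have ou : orderOf (xOf gK 0) = 2 := by
    apply orderOf_eq_prime
    · rw [← eu, ← map_pow, pow_two, huu]
      exact hzker 0
    · intro h
      have h1 : gK 0 ∈ Subgroup.center K := (QuotientGroup.eq_one_iff _).1 h
      exact not_center_of_code hφ ha hb hgen (hgK 0 (by norm_num)) c3 c1 h1
  have oz : orderOf (ev (xOf gK) q2Wz) = 2 := by
    apply orderOf_eq_prime
    · rw [← ez, ← map_pow, pow_two, hzz, map_one]
    · intro h
      rw [ev_xOf] at h
      have h1 : ev gK q2Wz ∈ Subgroup.center K := (QuotientGroup.eq_one_iff _).1 h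
      refine not_center_of_code hφ ha hb hgen
        (ev_code gK hgK q2_inv (lettersOK_spec c4)) ?_ c2 h1
      exact prodCode_lt _ _
  -- they are conjugate
  obtain ⟨c, hc⟩ := isConj_iff.1
    ((centralizer_structure_K hφ ha hb hgen).1 _ _ oz ou)
  obtain ⟨ct, rfl⟩ := hσ.1 c
  have hk : (ct * ev X q2Wz * ct⁻¹)⁻¹ * X 0 ∈ σ.ker := by
    rw [MonoidHom.mem_ker, map_mul, map_inv, map_mul, map_mul, map_inv, ez, eu, hc,
      inv_mul_cancel]
  obtain ⟨k, hkk, hk'⟩ : ∃ k ∈ σ.ker, X 0 = ct * ev X q2Wz * ct⁻¹ * k :=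
    ⟨_, hk, by group⟩
  have hkc := fun g => Subgroup.mem_center_iff.mp (hσ.2.1 hkk) g
  have hz0 : z 0 = k * k := by
    rw [← huu, hk']
    calc ct * ev X q2Wz * ct⁻¹ * k * (ct * ev X q2Wz * ct⁻¹ * k)
        = ct * ev X q2Wz * ct⁻¹ * (k * (ct * ev X q2Wz * ct⁻¹)) * k := by group
      _ = ct * ev X q2Wz * ct⁻¹ * ((ct * ev X q2Wz * ct⁻¹) * k) * k := by rw [← hkc]
      _ = ct * (ev X q2Wz * ev X q2Wz) * ct⁻¹ * (k * k) := by group
      _ = k * k := by rw [hzz]; group
  -- `ζ` is trivial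
  have hpow : ∀ g ∈ σ.ker, g ^ 26163 = 1 ∨ g ^ 26163 = z 0 := by
    intro g hg
    obtain ⟨w, hw, -⟩ := hker g hg
    rw [hidx] at hw
    rw [hw]
    exact hall w
  have hz1 : z 0 = 1 := by
    have h3 : z 0 ^ 26163 = 1 := by
      rw [hz0, ← pow_two, ← pow_mul, mul_comm, pow_mul]
      rcases hpow k hkk with h | h
      · rw [h, one_pow]
      · rw [h, h2]
    have h4 : z 0 ^ 26163 = z 0 := by
      have : (26163 : ℕ) = 2 * 13081 + 1 := by norm_num
      rw [this, pow_succ, pow_mul, h2, one_pow, one_mul]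
    rw [← h4, h3]
  intro g hg
  rcases hpow g hg with h | h
  · exact h
  · rw [h, hz1]

end

end Cfsg.Agent.Helper7.J3Mult
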